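import Mathlib

/-!
Lang's theorem in vector space form: an injective semilinear map of a finite dimensional space over an
algebraically closed field of characteristic `p`, relative to a nontrivial power of Frobenius, has a
spanning set of fixed vectors.
-/

set_option autoImplicit false

namespace CfsgLib.Lang

open Polynomial

variable {K : Type*} [Field K]

/-- The additive polynomials of the triangular system for a fixed vector in a cyclic subspace. -/
noncomputable def cyclicPoly (q : ℕ) (a : ℕ → K) : ℕ → K[X]
  | 0 => 0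
  | i + 1 => cyclicPoly q a i ^ q + C (a i) * X ^ q

theorem cyclicPoly_degree (q : ℕ) (hq : 2 ≤ q) (a : ℕ → K) (i : ℕ) :
    ((∃ j, j < i ∧ a j ≠ 0) → q ≤ (cyclicPoly q a i).natDegree) ∧
      ((∀ j, j < i → a j = 0) → cyclicPoly q a i = 0) := by
  induction i with
  | zero => simp [cyclicPoly]
  | succ i ih =>
    constructor
    · rintro ⟨j, hj, haj⟩
      by_cases hex : ∃ j, j < i ∧ a j ≠ 0
      · have hd := ih.1 hex
        have h1 : q < (cyclicPoly q a i ^ q).natDegree := by
          rw [natDegree_pow]
          calc q < q * q := lt_mul_of_one_lt_left (by omega) (by omega)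
            _ ≤ q * (cyclicPoly q a i).natDegree := Nat.mul_le_mul_left _ hd
        have h2 : (C (a i) * X ^ q).natDegree ≤ q := natDegree_C_mul_X_pow_le _ _
        show q ≤ (cyclicPoly q a i ^ q + C (a i) * X ^ q).natDegree
        rw [natDegree_add_eq_left_of_natDegree_lt (h2.trans_lt h1)]
        omega
      · have hji : j = i := by
          rcases Nat.lt_succ_iff_lt_or_eq.1 hj with h | h
          · exact absurd ⟨j, h, haj⟩ hex
          · exact h
        subst hji
        have hz : cyclicPoly q a j = 0 := ih.2 fun k hk => by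
          by_contra hk'
          exact hex ⟨k, hk, hk'⟩
        show q ≤ (cyclicPoly q a j ^ q + C (a j) * X ^ q).natDegree
        rw [hz, zero_pow (by omega), zero_add, natDegree_C_mul_X_pow _ _ haj]
    · intro h
      show cyclicPoly q a i ^ q + C (a i) * X ^ q = 0
      rw [ih.2 fun j hj => h j (by omega), h i (by omega), zero_pow (by omega)]
      simp

theorem cyclicPoly_eval_zero (q : ℕ) (hq : q ≠ 0) (a : ℕ → K) (i : ℕ) :
    (cyclicPoly q a i).eval 0 = 0 := by
  induction i with
  | zero => simp [cyclicPoly]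
  | succ i ih => simp [cyclicPoly, ih, zero_pow hq]

theorem cyclicPoly_derivative (q : ℕ) (hq : (q : K) = 0) (a : ℕ → K) (i : ℕ) :
    derivative (cyclicPoly q a i) = 0 := by
  induction i with
  | zero => simp [cyclicPoly]
  | succ i ih => simp [cyclicPoly, derivative_pow, ih, hq]

variable [IsAlgClosed K]

theorem exists_root_ne_zero (q : ℕ) (hq : 2 ≤ q) (hq0 : (q : K) = 0) (a : ℕ → K) (k : ℕ)
    (ha : ∃ j, j < k ∧ a j ≠ 0) : ∃ t : K, t ≠ 0 ∧ (cyclicPoly q a k).eval t = t := by
  classical
  set R := cyclicPoly q a k - X with hR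
  have hd : R.natDegree = (cyclicPoly q a k).natDegree :=
    natDegree_sub_eq_left_of_natDegree_lt (by
      have := (cyclicPoly_degree q hq a k).1 ha
      rw [natDegree_X]; omega)
  have hd2 : 2 ≤ R.natDegree := by
    have := (cyclicPoly_degree q hq a k).1 ha
    omega
  have hsep : R.Separable := by
    rw [separable_def, hR, derivative_sub, cyclicPoly_derivative q hq0, derivative_X, zero_sub]
    exact isCoprime_one_right.neg_right
  have hR0 : R ≠ 0 := fun h => by simp [h] at hd2
  have hcard : R.roots.toFinset.card = R.natDegree := by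
    rw [Multiset.toFinset_card_of_nodup (nodup_roots hsep)]
    exact (IsAlgClosed.splits R).natDegree_eq_card_roots.symm
  obtain ⟨t, ht, ht0⟩ := Finset.exists_mem_ne (by omega : 1 < R.roots.toFinset.card) 0
  refine ⟨t, ht0, ?_⟩
  rw [Multiset.mem_toFinset, mem_roots hR0, IsRoot, hR, eval_sub, eval_X] at ht
  exact sub_eq_zero.1 ht

variable {p : ℕ} [Fact p.Prime] [CharP K p]

theorem two_le_pow {f : ℕ} (hf : 1 ≤ f) : 2 ≤ p ^ f :=
  (Fact.out : p.Prime).two_le.trans (Nat.le_self_pow (by omega) p)

theorem exists_pow_sub_self_eq {f : ℕ} (hf : 1 ≤ f) (d : K) : ∃ c : K, c ^ p ^ f + d = c := by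
  have hq := two_le_pow (p := p) hf
  have h1 : ((X : K[X]) ^ p ^ f + C d - X).natDegree = p ^ f := by
    rw [natDegree_sub_eq_left_of_natDegree_lt] <;>
      rw [natDegree_add_C, natDegree_X_pow]
    simp; omega
  obtain ⟨c, hc⟩ := IsAlgClosed.exists_root ((X : K[X]) ^ p ^ f + C d - X) (by
    intro h
    have := natDegree_eq_zero_iff_degree_le_zero.2 (le_of_eq h)
    omega)
  refine ⟨c, ?_⟩
  simpa [sub_eq_zero] using hc

/-- An injective semilinear map has a nonzero fixed vector. -/
theorem exists_fixed_ne_zero {V : Type*} [AddCommGroup V] [Module K V] [FiniteDimensional K V]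
    {f : ℕ} (hf : 1 ≤ f) (φ : V →ₛₗ[iterateFrobenius K p f] V) (hφ : Function.Injective φ)
    {v : V} (hv : v ≠ 0) : ∃ w, w ≠ 0 ∧ φ w = w := by
  classical
  set u : ℕ → V := fun i => φ^[i] v with hu
  have hu0 : u 0 = v := rfl
  have hus : ∀ i, φ (u i) = u (i + 1) := fun i => by
    simp only [hu, Function.iterate_succ_apply']
  have hex : ∃ k, u k ∈ Submodule.span K (Set.range fun i : Fin k => u i) := by
    by_contra h
    push Not at h
    have hli : ∀ k, LinearIndependent K (fun i : Fin k => u i) := by
      intro k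
      induction k with
      | zero => exact linearIndependent_empty_type
      | succ k ih =>
        rw [linearIndependent_finSucc']
        refine ⟨ih, h k⟩
    have := (hli (Module.finrank K V + 1)).fintype_card_le_finrank
    simp at this
  set k := Nat.find hex with hk
  have hmem := Nat.find_spec hex
  rw [← hk] at hmem
  obtain ⟨c, hc⟩ := (Submodule.mem_span_range_iff_exists_fun K).1 hmem
  set a : ℕ → K := fun i => if h : i < k then c ⟨i, h⟩ else 0 with ha
  have hsum : u k = ∑ i ∈ Finset.range k, a i • u i := by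
    rw [← hc, Finset.sum_range fun i => a i • u i]
    simp [ha]
  have hkpos : 0 < k := by
    rcases Nat.eq_zero_or_pos k with h | h
    · exfalso
      rw [h] at hsum
      simp only [Finset.range_zero, Finset.sum_empty] at hsum
      exact hv (hu0 ▸ hsum)
    · exact h
  have hne : ∀ i, u i ≠ 0 := fun i => by
    induction i with
    | zero => rwa [hu0]
    | succ i ih =>
      rw [← hus, Ne, ← φ.map_zero]
      exact fun h => ih (hφ h)
  have hanz : ∃ j, j < k ∧ a j ≠ 0 := by
    by_contra h
    push Not at h
    exact hne k (hsum.trans (Finset.sum_eq_zero fun i hi => by rw [h i (Finset.mem_range.1 hi), zero_smul]))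
  set q := p ^ f with hqdef
  have hq0 : (q : K) = 0 := by
    rw [hqdef, Nat.cast_pow, CharP.cast_eq_zero, zero_pow (by omega)]
  obtain ⟨t, ht0, ht⟩ := exists_root_ne_zero q (two_le_pow hf) hq0 a k hanz
  set x : ℕ → K := fun i => (cyclicPoly q a (i + 1)).eval t with hx
  obtain ⟨m, hm⟩ : ∃ m, k = m + 1 := ⟨k - 1, by omega⟩
  have hxm : x m = t := by simp only [hx]; rw [← hm]; exact ht
  refine ⟨∑ i ∈ Finset.range k, x i • u i, ?_, ?_⟩
  · intro h
    rw [hm, Finset.sum_range_succ, hxm, add_eq_zero_iff_eq_neg'] at h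
    have hlt : m < k := by omega
    refine Nat.find_min hex hlt ?_
    have : u m = t⁻¹ • -∑ i ∈ Finset.range m, x i • u i := by
      rw [← h, smul_smul, inv_mul_cancel₀ ht0, one_smul]
    rw [this]
    refine Submodule.smul_mem _ _ (Submodule.neg_mem _ (Submodule.sum_mem _ fun i hi => ?_))
    exact Submodule.smul_mem _ _ (Submodule.subset_span ⟨⟨i, Finset.mem_range.1 hi⟩, rfl⟩)
  · rw [map_sum]
    simp only [LinearMap.map_smulₛₗ, iterateFrobenius_def, ← hqdef, hus]
    rw [hm] at hsum ⊢
    rw [Finset.sum_range_succ, hxm, hsum, Finset.smul_sum, Finset.sum_range_succ' (fun i => x i • u i),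
      Finset.sum_range_succ' (fun i => t ^ q • a i • u i), ← add_assoc, ← Finset.sum_add_distrib]
    congr 1
    · refine Finset.sum_congr rfl fun i _ => ?_
      rw [smul_smul, ← add_smul]
      congr 1
      simp only [hx, cyclicPoly, eval_add, eval_pow, eval_mul, eval_C, eval_X]
      ring
    · rw [smul_smul]
      congr 1
      simp only [hx, cyclicPoly, eval_add, eval_pow, eval_mul, eval_C, eval_X, eval_zero,
        zero_pow (show q ≠ 0 by have := two_le_pow (p := p) hf; omega), zero_add]
      ring

/-- The fixed vectors of an injective semilinear map span the space. -/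
theorem span_fixed_eq_top {V : Type*} [AddCommGroup V] [Module K V] [FiniteDimensional K V]
    {f : ℕ} (hf : 1 ≤ f) (φ : V →ₛₗ[iterateFrobenius K p f] V) (hφ : Function.Injective φ) :
    Submodule.span K {v | φ v = v} = ⊤ := by
  set W := Submodule.span K {v | φ v = v} with hW
  by_contra hne
  have hmap : W ≤ W.comap φ := by
    rw [hW, Submodule.span_le]
    intro v hv
    have hv' : φ v = v := hv
    show φ v ∈ W
    rw [hv']
    exact Submodule.subset_span hv
  have hpre : ∀ w ∈ W, ∃ u ∈ W, φ u = w := by
    intro w hw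
    induction hw using Submodule.span_induction with
    | mem w hw => exact ⟨w, Submodule.subset_span hw, hw⟩
    | zero => exact ⟨0, W.zero_mem, map_zero _⟩
    | add x y _ _ hx hy =>
      obtain ⟨u, hu, rfl⟩ := hx
      obtain ⟨u', hu', rfl⟩ := hy
      exact ⟨u + u', W.add_mem hu hu', map_add _ _ _⟩
    | smul c x _ hx =>
      obtain ⟨u, hu, rfl⟩ := hx
      obtain ⟨d, hd⟩ := IsAlgClosed.exists_pow_nat_eq c (n := p ^ f) (by have := two_le_pow (p := p) hf; omega)
      exact ⟨d • u, W.smul_mem _ hu, by rw [LinearMap.map_smulₛₗ, iterateFrobenius_def, hd]⟩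
  have hinj : Function.Injective (W.mapQ W φ hmap) := by
    rw [injective_iff_map_eq_zero]
    intro y hy
    obtain ⟨v, rfl⟩ := Submodule.mkQ_surjective W y
    rw [Submodule.mkQ_apply, Submodule.mapQ_apply, Submodule.Quotient.mk_eq_zero] at hy
    obtain ⟨u, hu, huv⟩ := hpre _ hy
    rw [Submodule.mkQ_apply, Submodule.Quotient.mk_eq_zero, ← hφ huv]
    exact hu
  obtain ⟨v, hv⟩ : ∃ v, v ∉ W := by
    by_contra h
    push Not at h
    exact hne (eq_top_iff.2 fun v _ => h v)
  obtain ⟨y, hy0, hy⟩ := exists_fixed_ne_zero hf _ hinj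
    (v := Submodule.Quotient.mk v) (by rwa [Ne, Submodule.Quotient.mk_eq_zero])
  obtain ⟨z, rfl⟩ := Submodule.mkQ_surjective W y
  rw [Submodule.mkQ_apply, Submodule.mapQ_apply, Submodule.Quotient.eq] at hy
  rw [Submodule.mkQ_apply, Ne, Submodule.Quotient.mk_eq_zero] at hy0
  have hfix : ∀ d ∈ W, ∀ s : K, ∃ c ∈ W, φ c + s • d = c := by
    intro d hd
    induction hd using Submodule.span_induction with
    | mem w hw =>
      intro s
      obtain ⟨c, hc⟩ := exists_pow_sub_self_eq (p := p) hf s
      refine ⟨c • w, W.smul_mem _ (Submodule.subset_span hw), ?_⟩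
      have hw' : φ w = w := hw
      conv_rhs => rw [← hc]
      rw [LinearMap.map_smulₛₗ, iterateFrobenius_def, hw', add_smul]
    | zero => exact fun _ => ⟨0, W.zero_mem, by simp⟩
    | add x y _ _ hx hy =>
      intro s
      obtain ⟨c, hc, hc'⟩ := hx s
      obtain ⟨c', hd, hd'⟩ := hy s
      refine ⟨c + c', W.add_mem hc hd, ?_⟩
      rw [map_add, smul_add]
      conv_rhs => rw [← hc', ← hd']
      abel
    | smul s' x _ hx =>
      intro s
      obtain ⟨c, hc, hc'⟩ := hx (s * s')
      exact ⟨c, hc, by rw [smul_smul, hc']⟩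
  obtain ⟨c, hc, hc'⟩ := hfix _ hy 1
  refine hy0 ?_
  have : z + c ∈ W := Submodule.subset_span (show φ (z + c) = z + c by
    rw [map_add]; conv_rhs => rw [← hc', one_smul]
    abel)
  simpa using W.sub_mem this hc

end CfsgLib.Lang
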